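import Groth.Agent.Lib.PicLift26.Main
import Groth.Agent.S8533

/-!
# Connected subsets of a proper scheme over a henselian ring meet the closed fibre connectedly
-/

set_option autoImplicit false
set_option backward.isDefEq.respectTransparency false
set_option linter.all false

universe u

open CategoryTheory AlgebraicGeometry TopologicalSpace

noncomputable section

namespace GrothLib.PicLift26

variable {A : Type u} [CommRing A] [HenselianLocalRing A] {X : Scheme.{u}} (f : X ⟶ Spec (CommRingCat.of A)) [IsProper f]

theorem isConnected_inter_fibre (Y : Set X) (hY : IsClosed Y) (hYc : _root_.IsConnected Y) :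
    (Y ∩ f.base ⁻¹' {IsLocalRing.closedPoint A}).Nonempty ∧
      _root_.IsConnected (Y ∩ f.base ⁻¹' {IsLocalRing.closedPoint A}) := by
  let I := Scheme.IdealSheafData.vanishingIdeal ⟨Y, hY⟩
  let g := I.subschemeι ≫ f
  let s : ↥(Spec (CommRingCat.of A)) := IsLocalRing.closedPoint A
  haveI : IsProper g := inferInstance
  have hbij := Groth.Agent.S8533.result A g
  have hr : Set.range I.subschemeι.base = Y := by
    rw [I.range_subschemeι, Scheme.IdealSheafData.coe_support_vanishingIdeal]; rfl
  haveI : ConnectedSpace ↥I.subscheme := by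
    haveI := isConnected_iff_connectedSpace.1 (hr.symm ▸ hYc : _root_.IsConnected (Set.range I.subschemeι.base))
    exact (I.subschemeι.isEmbedding.toHomeomorph.symm.surjective).connectedSpace (Homeomorph.continuous _)
  haveI hne : Nonempty ↥(g.fiber s) := by
    obtain ⟨c, -⟩ := hbij.2 (ConnectedComponents.mk (Classical.arbitrary ↥I.subscheme))
    exact ⟨c.exists_rep.choose⟩
  haveI : PreconnectedSpace ↥(g.fiber s) := preconnectedSpace_iff_connectedComponent.2 fun y =>
    Set.eq_univ_of_forall fun z => ConnectedComponents.coe_eq_coe'.1 (hbij.1 (Subsingleton.elim _ _))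
  haveI : ConnectedSpace ↥(g.fiber s) := ⟨hne⟩
  have h2 : _root_.IsConnected (I.subschemeι.base '' Set.range (g.fiberι s).base) :=
    (isConnected_range (g.fiberι s).continuous).image _ I.subschemeι.continuous.continuousOn
  have e : I.subschemeι.base '' Set.range (g.fiberι s).base = Y ∩ f.base ⁻¹' {s} := by
    rw [Scheme.Hom.range_fiberι]
    ext x
    constructor
    · rintro ⟨y, hy, rfl⟩
      exact ⟨hr.le ⟨y, rfl⟩, hy⟩
    · rintro ⟨hx, hfx⟩
      obtain ⟨y, rfl⟩ := hr.ge hx
      exact ⟨y, hfx, rfl⟩
  exact ⟨(e ▸ h2).nonempty, e ▸ h2⟩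

end GrothLib.PicLift26
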