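import Groth.Agent.Lib.PicLift26.Main
import Groth.Agent.Lib.Cube.Trivs
import Groth.Agent.Lib.SmLift3.Local

/-!
# Patches from closed open parts of locally closed subsets
-/

set_option autoImplicit false
set_option backward.isDefEq.respectTransparency false
set_option linter.all false
set_option synthInstance.maxHeartbeats 200000

universe u

open CategoryTheory AlgebraicGeometry Opposite TopologicalSpace
open GrothLib.Ample

noncomputable section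

namespace GrothLib.PicLift26

variable {X X₀ : Scheme.{u}} (i : X₀ ⟶ X) [IsClosedImmersion i]

theorem hasShrinkPatches_of_clopen
    (h2 : ∀ Y : Set X, IsLocallyClosed Y → DiscreteTopology ↥(Y ∩ Set.range i.base) →
      ∃ Y' : Set X, Y' ⊆ Y ∧ IsClosed Y' ∧ (∃ O : Set X, IsOpen O ∧ Y' = Y ∩ O) ∧ Y ∩ Set.range i.base ⊆ Y') :
    HasShrinkPatches i := by
  intro x hxc V hV hxV h hh u hu
  have hV₀ : IsAffineOpen (i ⁻¹ᵁ V) := hV.preimage i
  haveI := hV₀.isLocalization_basicOpen h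
  obtain ⟨⟨a, ⟨_, n, rfl⟩⟩, hua⟩ := IsLocalization.surj (Submonoid.powers h) u
  obtain ⟨A, hA⟩ := i.app_surjective _ hV a
  obtain ⟨H, hH⟩ := i.app_surjective _ hV h
  replace hua : u * res (X₀.basicOpen_le h) (h ^ n) = res (X₀.basicOpen_le h) a := hua
  have hua' : IsUnit (res (X₀.basicOpen_le h) a) := by
    rw [← hua, map_pow]
    exact hu.mul ((RingedSpace.isUnit_res_basicOpen X₀.toRingedSpace h).pow n)
  -- the bad locus and its component through the point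
  let B : X.Opens := X.basicOpen A ⊓ X.basicOpen H
  have hpre : ∀ y ∈ i ⁻¹ᵁ V, y ≠ x → i.base y ∈ B := by
    intro y hy hne
    have hyh : y ∈ X₀.basicOpen h := (hh y hy).2 hne
    refine ⟨?_, ?_⟩
    · show y ∈ i ⁻¹ᵁ X.basicOpen A
      rw [Scheme.preimage_basicOpen, hA]
      have h1 := Scheme.basicOpen_of_isUnit X₀ hua'
      rw [Scheme.basicOpen_res] at h1
      exact (h1.ge hyh).2
    · show y ∈ i ⁻¹ᵁ X.basicOpen H
      rw [Scheme.preimage_basicOpen, hH]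
      exact hyh
  have hxB : i.base x ∉ B := fun hx => by
    have h1 : x ∈ i ⁻¹ᵁ X.basicOpen H := hx.2
    rw [Scheme.preimage_basicOpen, hH] at h1
    exact (hh x hxV).1 h1 rfl
  have hxZ : (Set.range i.base ∩ ((V : Set X) \ B)) ⊆ {i.base x} := by
    rintro p ⟨⟨y, rfl⟩, hpV, hpB⟩
    by_contra hne
    exact hpB (hpre y hpV fun e => hne (e ▸ rfl))
  have hlc : IsLocallyClosed ((V : Set X) \ B) := V.2.isLocallyClosed.inter B.2.isClosed_compl.isLocallyClosed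
  have hdisc : ∀ S : Set X, S ⊆ (V : Set X) \ B → DiscreteTopology ↥(S ∩ Set.range i.base) := fun S hS => by
    haveI : Subsingleton ↥(S ∩ Set.range i.base) :=
      ⟨fun p q => Subtype.ext ((hxZ ⟨p.2.2, hS p.2.1⟩).trans (hxZ ⟨q.2.2, hS q.2.1⟩).symm)⟩
    infer_instance
  obtain ⟨K, hKY, hKcl, ⟨O, hO, hKO⟩, hKi⟩ := h2 _ hlc (hdisc _ subset_rfl)
  have hxK : i.base x ∈ K := hKi ⟨⟨hxV, hxB⟩, x, rfl⟩
  let Z : Closeds X := ⟨K, hKcl⟩
  let W : X.Opens := V ⊓ (B ⊔ ⟨O, hO⟩)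
  have hWV : i ⁻¹ᵁ V ≤ i ⁻¹ᵁ W := fun y hy => ⟨hy, by
    by_cases hne : y = x
    · exact Or.inr (hne ▸ (hKO.le hxK).2)
    · exact Or.inl (hpre y hy hne)⟩
  have hWZ : W ⊓ Z.compl ≤ B := fun p hp => by
    rcases hp.1.2 with hpB | hpO
    · exact hpB
    · by_contra hpB
      exact hp.2 (hKO.ge ⟨⟨hp.1.1, hpB⟩, hpO⟩)
  have hZW : (Z : Set X) ⊆ W := fun p hp => ⟨(hKY hp).1, Or.inr (hKO.le hp).2⟩
  have hZi : (Z : Set X) ∩ Set.range i.base = {i.base x} :=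
    Set.Subset.antisymm (fun p hp => hxZ ⟨hp.2, hKY hp.1⟩) (Set.singleton_subset_iff.2 ⟨hxK, x, rfl⟩)
  have hshrink : ∀ C : Set X, IsClosed C → i.base x ∉ C → ∃ Z' : Set X, IsClosed Z' ∧ Z' ⊆ Z ∧ i.base x ∈ Z' ∧
      IsClosed ((Z : Set X) \ Z') ∧ Disjoint Z' C := by
    intro C hC hxC
    obtain ⟨K', hK'Y, hK'cl, ⟨O', hO', hK'O⟩, hK'i⟩ :=
      h2 (K \ C) (hKcl.isLocallyClosed.inter hC.isOpen_compl.isLocallyClosed) (hdisc _ fun p hp => hKY hp.1)
    refine ⟨K', hK'cl, fun p hp => (hK'Y hp).1, hK'i ⟨⟨hxK, hxC⟩, x, rfl⟩, ?_, Set.disjoint_left.2 fun p hp => (hK'Y hp).2⟩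
    have e : (Z : Set X) \ K' = K ∩ (Cᶜ ∩ O')ᶜ := by
      ext p
      show p ∈ K ∧ p ∉ K' ↔ p ∈ K ∧ ¬ (p ∉ C ∧ p ∈ O')
      refine and_congr_right fun hp => ?_
      rw [hK'O]
      exact not_congr ⟨fun h => ⟨h.1.2, h.2⟩, fun h => ⟨⟨hp, h.1⟩, h.2⟩⟩
    rw [e]
    exact hKcl.inter (hC.isOpen_compl.inter hO').isClosed_compl
  have hle : i ⁻¹ᵁ (W ⊓ Z.compl) ≤ X₀.basicOpen h := fun y hy =>
    (hh y hy.1.1).2 fun e => hy.2 (by rw [e]; exact hxK)
  have uA : IsUnit (res (inf_le_left.trans inf_le_left : W ⊓ Z.compl ≤ V) A) := by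
    rw [← res_res (X.basicOpen_le A) (hWZ.trans inf_le_left)]
    exact (RingedSpace.isUnit_res_basicOpen X.toRingedSpace A).map _
  have uH : IsUnit (res (inf_le_left.trans inf_le_left : W ⊓ Z.compl ≤ V) H) := by
    rw [← res_res (X.basicOpen_le H) (hWZ.trans inf_le_right)]
    exact (RingedSpace.isUnit_res_basicOpen X.toRingedSpace H).map _
  obtain ⟨v, hv⟩ := uH.pow n
  refine ⟨W, Z, hWV, res (inf_le_left.trans inf_le_left : W ⊓ Z.compl ≤ V) A * ((v⁻¹ : Γ(X, W ⊓ Z.compl)ˣ) : Γ(X, W ⊓ Z.compl)), uA.mul v⁻¹.isUnit, hle,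
    inf_le_left, hZW, hshrink, hZi, ?_⟩
  let φ := (i.appLE (W ⊓ Z.compl) (i ⁻¹ᵁ (W ⊓ Z.compl)) le_rfl).hom
  have hφ : ∀ (s : Γ(X, V)) (t : Γ(X₀, i ⁻¹ᵁ V)), (i.app V).hom s = t →
      φ (res (inf_le_left.trans inf_le_left) s) = res (hle.trans (X₀.basicOpen_le h)) t := by
    intro s t e
    rw [← e, Scheme.Hom.app_eq_appLE, res_appLE]
    exact appLE_res _ _ _ _
  have hvv : φ v = res (hle.trans (X₀.basicOpen_le h)) h ^ n := by
    rw [hv, map_pow, hφ H h hH]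
  refine ((v.map (φ : Γ(X, W ⊓ Z.compl) →* _)).isUnit.mul_left_inj).1 ?_
  show φ (_ * _) * φ v = _ * φ v
  rw [← map_mul, mul_assoc, Units.inv_mul, mul_one, hφ A a hA, hvv]
  have h2 := congrArg (res hle) hua
  rw [map_mul, res_res, res_res, map_pow] at h2
  exact h2.symm

end GrothLib.PicLift26
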